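import Groth.Agent.KInj.DerivedAdj
import Groth.Agent.KInj.Main

/-!
# Exact left adjoints induce left adjoints of derived categories
-/

set_option autoImplicit false
set_option linter.style.haveILetI false

universe w w' v u v₁ u₁

open CategoryTheory CategoryTheory.Limits

namespace Groth.Agent.DerAdjLib

variable {B : Type u} [Category.{v} B] [Abelian B] [HasDerivedCategory.{w} B]
  {A : Type u₁} [Category.{v₁} A] [Abelian A] [HasDerivedCategory.{w'} A]

/-- An exact left adjoint into a category with K-injective resolutions gives a left adjoint of derived categories. -/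
theorem isLeftAdjoint_mapDerivedCategory
    (hres : ∀ K : CochainComplex B ℤ, ∃ (I : CochainComplex B ℤ) (f : K ⟶ I), I.IsKInjective ∧ QuasiIso f)
    (F : A ⥤ B) [F.Additive] [PreservesFiniteLimits F] [PreservesFiniteColimits F] [F.IsLeftAdjoint] :
    F.mapDerivedCategory.IsLeftAdjoint := by
  let adj := Adjunction.ofIsLeftAdjoint F
  haveI : F.rightAdjoint.Additive := adj.right_adjoint_additive
  let G := F.rightAdjoint.mapHomotopyCategory (ComplexShape.up ℤ) ⋙ (DerivedCategory.Qh (C := A))
  haveI := KInj.hasRightDerivedFunctor hres G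
  let W₁ := HomotopyCategory.quasiIso A (ComplexShape.up ℤ)
  let W₂ := HomotopyCategory.quasiIso B (ComplexShape.up ℤ)
  let RG := G.totalRightDerived (DerivedCategory.Qh (C := B)) W₂
  let α := G.totalRightDerivedUnit (DerivedCategory.Qh (C := B)) W₂
  let lf := F.mapDerivedCategoryFactorsh
  haveI := Functor.isLeftDerivedFunctor_of_inverts (W := W₁) F.mapDerivedCategory lf
  haveI : (F.mapDerivedCategory ⋙ RG).IsLeftDerivedFunctor
      ((Functor.associator _ _ _).inv ≫ Functor.whiskerRight lf.hom RG) W₁ :=
    Functor.isLeftDerivedFunctor_of_inverts (W := W₁) (F.mapDerivedCategory ⋙ RG)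
      ((Functor.associator _ _ _).symm ≪≫ Functor.isoWhiskerRight lf RG)
  haveI : (RG ⋙ F.mapDerivedCategory).IsRightDerivedFunctor
      (Functor.whiskerRight α F.mapDerivedCategory ≫ (Functor.associator _ _ _).hom) W₂ :=
    KInj.isRightDerivedFunctor_of_isIso_h hres _ _ fun I hI => by
      haveI := hI
      haveI := KInj.isIso_app_of_isKInjective hres _ RG α I
      simp only [NatTrans.comp_app, Functor.associator_hom_app, Functor.whiskerRight_app]
      infer_instance
  exact ⟨RG, ⟨(KInj.homotopyAdjunction adj).derived W₁ W₂ lf.hom α⟩⟩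

end Groth.Agent.DerAdjLib
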