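import Groth.Agent.S6523
import Groth.Agent.BrownRep.Grothendieck
import Groth.Agent.DerAdjLib.MapDerived
import Mathlib.CategoryTheory.Abelian.Subcategory
import Mathlib.CategoryTheory.Abelian.GrothendieckCategory.Basic
import Mathlib.CategoryTheory.Generator.Basic

/-!
# Adjoint functors between standard derived categories of Grothendieck categories
-/

set_option autoImplicit false
set_option linter.style.haveILetI false
set_option backward.isDefEq.respectTransparency false

universe v u u' uA vA uB vB

open CategoryTheory CategoryTheory.Limits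

namespace Groth.Agent.DerAdjLib

section

variable {A : Type u} [Category.{v} A] [Abelian A] (i₁ : HasDerivedCategory.{v} A)

/-- The identity between two models of the derived category. -/
noncomputable abbrev toStandard :
    @DerivedCategory A _ _ i₁ ⥤ @DerivedCategory A _ _ (HasDerivedCategory.standard A) :=
  @Functor.mapDerivedCategory _ _ _ i₁ _ _ _ (HasDerivedCategory.standard A) (𝟭 A) _ _ _

theorem isEquivalence_toStandard : (toStandard i₁).IsEquivalence :=
  Functor.isEquivalence_of_iso (Localization.isoUniqFunctor (@DerivedCategory.Q A _ _ i₁)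
    (@DerivedCategory.Q A _ _ (HasDerivedCategory.standard A))
    (HomologicalComplex.quasiIso A (ComplexShape.up ℤ)) (toStandard i₁)
    (@Functor.mapDerivedCategoryFactors _ _ _ i₁ _ _ _ (HasDerivedCategory.standard A) (𝟭 A) _ _ _ ≪≫
      Functor.isoWhiskerRight (Functor.mapHomologicalComplexIdIso A (ComplexShape.up ℤ)) _ ≪≫ Functor.leftUnitor _)).symm

/-- The identity between two models of the derived category, backwards. -/
noncomputable abbrev ofStandard :
    @DerivedCategory A _ _ (HasDerivedCategory.standard A) ⥤ @DerivedCategory A _ _ i₁ :=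
  @Functor.mapDerivedCategory _ _ _ (HasDerivedCategory.standard A) _ _ _ i₁ (𝟭 A) _ _ _

theorem isEquivalence_ofStandard : (ofStandard i₁).IsEquivalence :=
  Functor.isEquivalence_of_iso (Localization.isoUniqFunctor (@DerivedCategory.Q A _ _ (HasDerivedCategory.standard A))
    (@DerivedCategory.Q A _ _ i₁)
    (HomologicalComplex.quasiIso A (ComplexShape.up ℤ)) (ofStandard i₁)
    (@Functor.mapDerivedCategoryFactors _ _ _ (HasDerivedCategory.standard A) _ _ _ i₁ (𝟭 A) _ _ _ ≪≫
      Functor.isoWhiskerRight (Functor.mapHomologicalComplexIdIso A (ComplexShape.up ℤ)) _ ≪≫ Functor.leftUnitor _)).symm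

end

open CategoryTheory.Pretriangulated in
/-- Brown representability across equivalent triangulated categories. -/
theorem isLeftAdjoint_of_equiv {A : Type u} [Category.{v} A] [Abelian A] [IsGrothendieckAbelian.{v} A]
    [HasDerivedCategory.{v} A] {B : Type u'} [Category.{v} B] [Abelian B] [IsGrothendieckAbelian.{v} B]
    [HasDerivedCategory.{v} B] {DA : Type uA} [Category.{vA} DA] [Preadditive DA] [HasZeroObject DA]
    [HasShift DA ℤ] [∀ n : ℤ, (shiftFunctor DA n).Additive] [Pretriangulated DA]
    {DB : Type uB} [Category.{vB} DB] [Preadditive DB] [HasZeroObject DB]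
    [HasShift DB ℤ] [∀ n : ℤ, (shiftFunctor DB n).Additive] [Pretriangulated DB]
    (S : DerivedCategory A ⥤ DA) [S.IsEquivalence] [S.CommShift ℤ] [S.IsTriangulated]
    (T : DB ⥤ DerivedCategory B) [T.IsEquivalence] [T.CommShift ℤ] [T.IsTriangulated]
    (F : DA ⥤ DB) [F.CommShift ℤ] [F.IsTriangulated]
    [∀ W : Type v, PreservesColimitsOfShape (Discrete W) F] : F.IsLeftAdjoint := by
  haveI : (S ⋙ F ⋙ T).IsLeftAdjoint := S6523.result (S ⋙ F ⋙ T)
  exact Functor.isLeftAdjoint_of_iso (F := S.inv ⋙ ((S ⋙ F ⋙ T) ⋙ T.inv))
    (Functor.isoWhiskerLeft _ (Functor.associator _ _ _) ≪≫ (Functor.associator _ _ _).symm ≪≫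
      Functor.isoWhiskerRight S.asEquivalence.counitIso _ ≪≫ Functor.leftUnitor _ ≪≫ Functor.associator _ _ _ ≪≫
      Functor.isoWhiskerLeft F T.asEquivalence.unitIso.symm ≪≫ Functor.rightUnitor _)

attribute [local instance] HasDerivedCategory.standard

/-- Exact functors preserving coproducts between derived categories of Grothendieck categories are left adjoints. -/
theorem isLeftAdjoint_standard {A : Type u} [Category.{v} A] [Abelian A] [IsGrothendieckAbelian.{v} A]
    {B : Type u'} [Category.{v} B] [Abelian B] [IsGrothendieckAbelian.{v} B]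
    (F : DerivedCategory A ⥤ DerivedCategory B) [F.CommShift ℤ] [F.IsTriangulated]
    [∀ T : Type v, PreservesColimitsOfShape (Discrete T) F] : F.IsLeftAdjoint :=
  haveI := isEquivalence_toStandard (BrownRep.smallDerivedCategory A)
  haveI := isEquivalence_ofStandard (BrownRep.smallDerivedCategory B)
  @isLeftAdjoint_of_equiv A _ _ _ (BrownRep.smallDerivedCategory A) B _ _ _ (BrownRep.smallDerivedCategory B)
    _ _ _ _ _ _ _ _ _ _ _ _ _ _ (toStandard (BrownRep.smallDerivedCategory A)) _ _ _
    (ofStandard (BrownRep.smallDerivedCategory B)) _ _ _ F _ _ _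

section FullSub

variable {C : Type u} [Category.{v} C] [Abelian C] [IsGrothendieckAbelian.{v} C] (P : ObjectProperty C)
  [P.ContainsZero] [P.IsClosedUnderKernels] [P.IsClosedUnderCokernels] [P.IsClosedUnderFiniteProducts]

/-- A full subcategory closed under colimits with a small separating family is a Grothendieck category. -/
theorem isGrothendieckAbelian_fullSubcategory [PreservesFiniteLimits P.ι]
    (hcl : ∀ (J : Type v) [SmallCategory J], P.IsClosedUnderColimitsOfShape J)
    {S : Type v} (G : S → C) (hG : ∀ s, P (G s))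
    (hsep : ∀ ⦃X Y : C⦄ (f g : X ⟶ Y), P X → P Y → (∀ s (k : G s ⟶ X), k ≫ f = k ≫ g) → f = g) :
    IsGrothendieckAbelian.{v} P.FullSubcategory := by
  haveI : ∀ (J : Type v) [SmallCategory J], P.IsClosedUnderColimitsOfShape J := hcl
  haveI : HasFilteredColimitsOfSize.{v, v} P.FullSubcategory :=
    ⟨fun J _ _ => inferInstance⟩
  haveI : AB5OfSize.{v, v} P.FullSubcategory :=
    ⟨fun J _ _ => HasExactColimitsOfShape.domain_of_functor J P.ι⟩
  let G' : S → P.FullSubcategory := fun s => ⟨G s, hG s⟩
  haveI : HasCoproduct G' := inferInstance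
  exact
    { locallySmall := inferInstance
      hasFilteredColimitsOfSize := inferInstance
      ab5OfSize := inferInstance
      hasSeparator := ⟨⟨∐ G', (isSeparator_sigma G').2 fun X Y f g hfg => by
        refine ObjectProperty.hom_ext _ (hsep f.hom g.hom X.2 Y.2 fun s k => ?_)
        exact congrArg (fun t : G' s ⟶ Y => t.hom) (hfg (G' s) ⟨s⟩ (ObjectProperty.homMk k))⟩⟩ }

end FullSub

end Groth.Agent.DerAdjLib
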